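import Cfsg.Agent.S0205
import Cfsg.Agent.Lib.Hall.Basic
import Cfsg.Agent.Lib.Transfer.Frobenius

/-!
# Elements of order three in the normalisers of small `2`-subgroups
-/

set_option autoImplicit false

namespace Cfsg.Agent.Lib.HallNumber68

open Subgroup

universe u

variable {G : Type u} [Group G] [Finite G]

/-- A Hall divisor of the order of a solvable subgroup is the order of a subgroup. -/
theorem exists_card_of_solvable (K : Subgroup G) [Group.IsSolvable K] {m : ℕ}
    (hcop : m.Coprime (Nat.card G / m)) (hmK : m ∣ Nat.card K) :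
    ∃ H : Subgroup G, Nat.card H = m := by
  have hm0 : 0 < m := Nat.pos_of_dvd_of_pos hmK Nat.card_pos
  obtain ⟨H, hH1, hH2⟩ := Hall.exists_isPiHall (G := K) {p | p ∣ m}
  refine ⟨H.map K.subtype, ?_⟩
  rw [Nat.card_congr (equivMapOfInjective H K.subtype K.subtype_injective).toEquiv.symm]
  have hKG : m.Coprime (Nat.card K / m) :=
    hcop.coprime_dvd_right (Nat.div_dvd_div hmK K.card_subgroup_dvd_card)
  refine Nat.dvd_antisymm (Nat.Coprime.dvd_of_dvd_mul_right (n := Nat.card K / m) ?_ ?_)
    (Nat.Coprime.dvd_of_dvd_mul_right (n := H.index) ?_ (by rw [H.card_mul_index]; exact hmK))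
  · refine Nat.coprime_of_dvd fun q hq hqH hqr => ?_
    exact hq.ne_one (Nat.dvd_one.1 (hKG ▸ Nat.dvd_gcd (hH1 q hq hqH) hqr))
  · rw [Nat.mul_div_cancel' hmK]
    exact H.card_subgroup_dvd_card
  · exact Nat.coprime_of_dvd fun q hq hqm hqi => hH2 q hq hqm hqi

/-- A group of order not divisible by four is solvable. -/
theorem isSolvable_of_not_four_dvd (h : ¬ 4 ∣ Nat.card G) : Group.IsSolvable G := by
  haveI := Fact.mk Nat.prime_two
  by_cases h2 : 2 ∣ Nat.card G
  swap
  · exact Cfsg.Agent.S0205.result (Nat.odd_iff.2 (Nat.two_dvd_ne_zero.1 h2))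
  have hmin : (Nat.card G).minFac = 2 := Nat.minFac_eq_two_iff _ |>.2 h2
  obtain ⟨P⟩ : Nonempty (Sylow 2 G) := inferInstance
  obtain ⟨k, hk⟩ := IsPGroup.iff_card.1 P.2
  have hk1 : k ≤ 1 := by
    by_contra hk2
    exact h ((show (4 : ℕ) = 2 ^ 2 by norm_num) ▸ (Nat.pow_dvd_pow 2 (by omega)).trans
      (hk ▸ (P : Subgroup G).card_subgroup_dvd_card))
  haveI hcyc : IsCyclic (P : Subgroup G) := by
    interval_cases k
    · haveI : Subsingleton (P : Subgroup G) := (Nat.card_eq_one_iff_unique.1 (by simpa using hk)).1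
      infer_instance
    · exact isCyclic_of_prime_card (p := 2) (by simpa using hk)
  have hc := IsCyclic.isComplement' hmin hcyc
  set K := (MonoidHom.transferSylow P (hcyc.normalizer_le_centralizer hmin)).ker with hK
  have hKodd : ¬ 2 ∣ Nat.card K := MonoidHom.not_dvd_card_ker_transferSylow P _
  haveI : Group.IsSolvable K :=
    Cfsg.Agent.S0205.result (Nat.odd_iff.2 (Nat.two_dvd_ne_zero.1 hKodd))
  haveI : Group.IsSolvable (P : Subgroup G) := by
    haveI := P.2.isNilpotent
    infer_instance
  exact Group.isSolvable_of_ker_le_range K.subtype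
    (MonoidHom.transferSylow P (hcyc.normalizer_le_centralizer hmin))
    (le_of_eq (K.range_subtype).symm)

/-- A group with a normal `2`-complement is solvable. -/
theorem isSolvable_of_hasNormalPComplement (h : Cfsg.HasNormalPComplement 2 G) :
    Group.IsSolvable G := by
  haveI := Fact.mk Nat.prime_two
  obtain ⟨P, N, hN, hc⟩ := h
  haveI := hN
  have hodd : ¬ 2 ∣ Nat.card N := by
    rw [← hc.index_eq_card]
    exact P.not_dvd_index
  haveI : Group.IsSolvable N :=
    Cfsg.Agent.S0205.result (Nat.odd_iff.2 (Nat.two_dvd_ne_zero.1 hodd))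
  haveI : Group.IsNilpotent (G ⧸ N) := (P.2.of_equiv hc.symm.QuotientMulEquiv.symm).isNilpotent
  exact Group.isSolvable_of_ker_le_range N.subtype (QuotientGroup.mk' N)
    (by rw [QuotientGroup.ker_mk', range_subtype])

/-- An automorphism of odd prime order of a group of order dividing eight. -/
theorem order_of_auto {Q : Type u} [Group Q] [Finite Q] (hQ : Nat.card Q ∣ 8) {α : MulAut Q}
    {r : ℕ} (hr : r.Prime) (hr2 : r ≠ 2) (hα : orderOf α = r) :
    (r = 3 ∧ 4 ∣ Nat.card Q) ∨ (Nat.card Q = 8 ∧ ∀ x : Q, x * x = 1) := by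
  haveI := Fact.mk hr
  haveI := Fact.mk Nat.prime_two
  have hA : IsPGroup r (zpowers α) := IsPGroup.of_card (n := 1) (by rw [Nat.card_zpowers, hα, pow_one])
  -- the fixed points of `α` on invariant subgroups
  have hmod : ∀ F : Subgroup Q, (∀ x, x ∈ F → α x = x) → (∀ x, α x = x → x ∈ F) →
      ∀ L : Subgroup Q, (∀ x ∈ L, α x ∈ L) → F ≤ L → Nat.card L ≡ Nat.card F [MOD r] := by
    intro F hF1 hF2 L hL hFL
    have hL' : ∀ g ∈ zpowers α, ∀ x ∈ L, g x ∈ L := by
      intro g hg x hx
      obtain ⟨n, rfl⟩ := (isOfFinOrder_of_finite α).mem_powers_iff_mem_zpowers.2 hg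
      induction n with
      | zero => simpa using hx
      | succ n ih =>
        show (α ^ (n + 1)) x ∈ L
        rw [pow_succ', MulAut.mul_apply]
        exact hL _ (ih (pow_mem (mem_zpowers α) n))
    letI : MulAction (zpowers α) L :=
      { smul := fun g x => ⟨(g : MulAut Q) x, hL' g g.2 x x.2⟩
        one_smul := fun x => rfl
        mul_smul := fun g h x => rfl }
    have h1 := hA.card_modEq_card_fixedPoints L
    convert h1 using 1
    refine Nat.card_congr
      { toFun := fun x => ⟨⟨x, hFL x.2⟩, fun g => Subtype.ext ?_⟩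
        invFun := fun x => ⟨((x : L) : Q), hF2 _ ?_⟩
        left_inv := fun x => rfl
        right_inv := fun x => rfl }
    · obtain ⟨n, hn⟩ := (isOfFinOrder_of_finite α).mem_powers_iff_mem_zpowers.2 g.2
      show (g : MulAut Q) x = x
      have key : ∀ n : ℕ, (α ^ n) (x : Q) = x := fun n => by
        induction n with
        | zero => rfl
        | succ n ih => rw [pow_succ', MulAut.mul_apply, ih, hF1 _ x.2]
      rw [← hn]
      exact key n
    · exact congrArg Subtype.val (x.2 ⟨α, mem_zpowers α⟩)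
  let F : Subgroup Q :=
    { carrier := {x | α x = x}
      one_mem' := map_one α
      mul_mem' := fun {a b} ha hb => by
        show α (a * b) = a * b
        rw [map_mul, show α a = a from ha, show α b = b from hb]
      inv_mem' := fun {a} ha => by
        show α a⁻¹ = a⁻¹
        rw [map_inv, show α a = a from ha] }
  have hne : F ≠ ⊤ := fun h => hr.ne_one (by
    rw [← hα, orderOf_eq_one_iff]
    exact MulEquiv.ext fun x => (h ▸ mem_top x : x ∈ F))
  have hF : Nat.card Q ≡ Nat.card F [MOD r] := by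
    rw [← Subgroup.card_top (G := Q)]
    exact hmod F (fun x hx => hx) (fun x hx => hx) ⊤ (fun x _ => mem_top _) le_top
  have hFd := F.card_subgroup_dvd_card
  have hFlt : Nat.card F < Nat.card Q := lt_of_le_of_ne (Nat.le_of_dvd Nat.card_pos hFd)
    fun e => hne (Subgroup.eq_top_of_card_eq F e)
  have hd : r ∣ Nat.card Q - Nat.card F := (Nat.modEq_iff_dvd' hFlt.le).1 hF.symm
  have hQ8 : Nat.card Q ≤ 8 := Nat.le_of_dvd (by norm_num) hQ
  have hr8 : r ≤ 8 := (Nat.le_of_dvd (by omega) hd).trans (by omega)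
  have hr3 := hr.two_le
  have hF1 : r = 3 ∧ 4 ∣ Nat.card Q ∨ Nat.card Q = 8 ∧ Nat.card F = 1 ∧ r = 7 := by
    have h8 : ∀ c, c ∣ 8 → c = 1 ∨ c = 2 ∨ c = 4 ∨ c = 8 := fun c hc => by
      have : c ≤ 8 := Nat.le_of_dvd (by norm_num) hc
      interval_cases c <;> simp_all
    rcases h8 _ hQ with e | e | e | e <;> rcases h8 _ (hFd.trans hQ) with e' | e' | e' | e' <;>
      rw [e, e'] at hd hFlt <;> interval_cases r <;>
      simp_all (config := { decide := true })
  rcases hF1 with h | ⟨h8, hF1, -⟩
  · exact Or.inl h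
  refine Or.inr ⟨h8, ?_⟩
  have hFbot : F = ⊥ := Subgroup.card_eq_one.1 hF1
  have hsub : ∀ L : Subgroup Q, (∀ x ∈ L, α x ∈ L) → L ≠ ⊥ → L = ⊤ := by
    intro L hL hL1
    have h1 := hmod F (fun x hx => hx) (fun x hx => hx) L hL (hFbot ▸ bot_le)
    rw [hF1] at h1
    have h2 : r ∣ Nat.card L - 1 := (Nat.modEq_iff_dvd' Nat.card_pos).1 h1.symm
    have h3 : 1 < Nat.card L := L.one_lt_card_iff_ne_bot.2 hL1
    refine Subgroup.eq_top_of_card_eq L ?_
    have h4 := L.card_subgroup_dvd_card
    rw [h8] at h4 ⊢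
    have h5 : Nat.card L ≤ 8 := Nat.le_of_dvd (by norm_num) h4
    interval_cases h : Nat.card L <;> interval_cases r <;> simp_all (config := { decide := true })
  have hp : IsPGroup 2 Q := IsPGroup.of_card (n := 3) (by rw [h8]; norm_num)
  haveI : Nontrivial Q := Finite.one_lt_card_iff_nontrivial.1 (by omega)
  haveI := hp.center_nontrivial
  have hZ : center Q = ⊤ := hsub _ (fun x hx => mem_center_iff.2 fun y => by
    rw [show y = α (α.symm y) from (α.apply_symm_apply y).symm, ← map_mul, ← map_mul,
      mem_center_iff.1 hx]) ((Subgroup.nontrivial_iff_ne_bot _).1 inferInstance)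
  have hcomm : ∀ a b : Q, a * b = b * a := fun a b =>
    (mem_center_iff.1 (hZ ▸ mem_top a : a ∈ center Q) b).symm
  let E : Subgroup Q :=
    { carrier := {x | x * x = 1}
      one_mem' := one_mul _
      mul_mem' := fun {a b} ha hb => by
        show a * b * (a * b) = 1
        rw [show a * b * (a * b) = a * (b * a) * b by group, hcomm b a,
          show a * (a * b) * b = a * a * (b * b) by group, show a * a = 1 from ha,
          show b * b = 1 from hb, mul_one]
      inv_mem' := fun {a} ha => by
        show a⁻¹ * a⁻¹ = 1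
        rw [← mul_inv_rev, show a * a = 1 from ha, inv_one] }
  obtain ⟨z, hz⟩ := exists_prime_orderOf_dvd_card' 2 (G := Q) (by rw [h8]; norm_num)
  have hE : E = ⊤ := hsub _ (fun x hx => by
    show α x * α x = 1
    rw [← map_mul, show x * x = 1 from hx, map_one]) fun h => by
      have h1 : z ∈ E := by
        show z * z = 1
        rw [← pow_two, ← hz, pow_orderOf_eq_one]
      rw [h, Subgroup.mem_bot] at h1
      rw [h1, orderOf_one] at hz
      omega
  exact fun x => (hE ▸ mem_top x : x ∈ E)

/-- If `16` does not divide the order, a `2`-subgroup of order at least four has solvable normaliser. -/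
theorem isSolvable_normalizer {Q : Subgroup G} (hQ : IsPGroup 2 Q) (h4 : 4 ∣ Nat.card Q)
    (h16 : ¬ 16 ∣ Nat.card G) : Group.IsSolvable (normalizer (Q : Set G)) := by
  haveI := Fact.mk Nat.prime_two
  set N := normalizer (Q : Set G)
  haveI : Group.IsSolvable (Q.subgroupOf N) := by
    haveI := (hQ.comap_of_injective N.subtype N.subtype_injective).isNilpotent
    exact inferInstanceAs (Group.IsSolvable (Q.comap N.subtype))
  haveI : Group.IsSolvable (N ⧸ Q.subgroupOf N) := by
    refine isSolvable_of_not_four_dvd fun hd => h16 ?_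
    have h1 : 16 ∣ Nat.card N := by
      rw [card_eq_card_quotient_mul_card_subgroup (Q.subgroupOf N),
        Nat.card_congr (subgroupOfEquivOfLe le_normalizer).toEquiv]
      exact Nat.mul_dvd_mul hd h4
    exact h1.trans N.card_subgroup_dvd_card
  exact Group.isSolvable_of_ker_le_range (Q.subgroupOf N).subtype
    (QuotientGroup.mk' (Q.subgroupOf N)) (by rw [QuotientGroup.ker_mk', range_subtype])

/-- In a non-solvable group whose Sylow `2`-subgroups have order at most eight some solvable
normaliser has order divisible by three and by the `2`-part, or these are elementary of order eight. -/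
theorem exists_three_or (hns : ¬ Group.IsSolvable G) (P : Sylow 2 G)
    (hP : Nat.card (P : Subgroup G) ∣ 8) :
    (∃ Q : Subgroup G, Q ≤ (P : Subgroup G) ∧ 4 ∣ Nat.card Q ∧
      3 ∣ Nat.card (normalizer (Q : Set G)) ∧ Nat.card (P : Subgroup G) ∣ Nat.card (normalizer (Q : Set G)) ∧
      Group.IsSolvable (normalizer (Q : Set G))) ∨
    (Nat.card (P : Subgroup G) = 8 ∧ ∀ x ∈ (P : Subgroup G), x * x = 1) := by
  classical
  haveI := Fact.mk Nat.prime_two
  have hnc : ¬ Cfsg.HasNormalPComplement 2 G := fun h => hns (isSolvable_of_hasNormalPComplement h)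
  obtain ⟨Q, hQP, g, hg, hgo, hgc⟩ : ∃ Q : Subgroup G, Q ≤ (P : Subgroup G) ∧
      ∃ g ∈ normalizer (Q : Set G), (orderOf g).Coprime 2 ∧ g ∉ centralizer (Q : Set G) := by
    by_contra hcon
    push Not at hcon
    apply hnc
    refine Transfer.Frobenius.hasNormalPComplement_of_forall_centralizes fun Q hQ _ g hg hgo => ?_
    obtain ⟨S, hS⟩ := hQ.exists_le_sylow
    obtain ⟨c, hc⟩ := MulAction.exists_smul_eq G S P
    set R := Q.map (MulAut.conj c).toMonoidHom with hR
    have hRP : R ≤ (P : Subgroup G) := by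
      rintro _ ⟨q, hq, rfl⟩
      rw [← hc]
      exact ⟨q, hS hq, rfl⟩
    have h1 := hcon R hRP (MulAut.conj c g)
      (le_normalizer_map (MulAut.conj c).toMonoidHom (mem_map_of_mem _ hg))
      (by rw [MulEquiv.orderOf_eq]; exact hgo)
    rw [mem_centralizer_iff] at h1 ⊢
    intro q hq
    have h2 := h1 (MulAut.conj c q) (mem_map_of_mem _ hq)
    rw [← map_mul, ← map_mul] at h2
    exact (MulAut.conj c).injective h2
  let φ : normalizer (Q : Set G) →* MulAut Q := Q.normalizerMonoidHom
  have hne : φ ⟨g, hg⟩ ≠ 1 := fun e => hgc (by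
    have h1 : (⟨g, hg⟩ : normalizer (Q : Set G)) ∈ φ.ker := e
    rw [show φ = Q.normalizerMonoidHom from rfl, normalizerMonoidHom_ker, mem_subgroupOf] at h1
    exact h1)
  obtain ⟨r, hr, hrd⟩ := Nat.exists_prime_and_dvd (mt orderOf_eq_one_iff.1 hne)
  have hrg : r ∣ orderOf g := hrd.trans ((orderOf_map_dvd φ _).trans (by
    rw [← Subgroup.orderOf_coe]))
  have hr2 : r ≠ 2 := fun e => hr.ne_one (Nat.dvd_one.1 (hgo ▸ Nat.dvd_gcd hrg (e ▸ dvd_rfl)))
  have hQd : Nat.card Q ∣ 8 := (card_dvd_of_le hQP).trans hP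
  rcases order_of_auto hQd (α := (φ ⟨g, hg⟩) ^ (orderOf (φ ⟨g, hg⟩) / r)) hr hr2
      (orderOf_pow_orderOf_div (orderOf_pos _).ne' hrd) with ⟨rfl, h4⟩ | ⟨h8, hsq⟩
  · refine Or.inl ⟨Q, hQP, h4, ?_, ?_, ?_⟩
    · exact hrg.trans ((Subgroup.orderOf_mk g hg).symm ▸ orderOf_dvd_natCard _)
    · have hle : (P : Subgroup G) ≤ normalizer (Q : Set G) := by
        have hi : (Q.subgroupOf (P : Subgroup G)).index ≤ 2 := by
          have h1 := (Q.subgroupOf (P : Subgroup G)).card_mul_index
          rw [Nat.card_congr (subgroupOfEquivOfLe hQP).toEquiv] at h1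
          have h2 : Nat.card (P : Subgroup G) ≤ 8 := Nat.le_of_dvd (by norm_num) hP
          have h3 : 4 ≤ Nat.card Q := Nat.le_of_dvd Nat.card_pos h4
          by_contra hcon
          have : 4 * 3 ≤ Nat.card Q * (Q.subgroupOf (P : Subgroup G)).index :=
            Nat.mul_le_mul h3 (by omega)
          omega
        haveI : (Q.subgroupOf (P : Subgroup G)).Normal := by
          have h0 := (Q.subgroupOf (P : Subgroup G)).index_ne_zero_of_finite
          rcases Nat.lt_or_ge (Q.subgroupOf (P : Subgroup G)).index 2 with h | h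
          · rw [index_eq_one.1 (show (Q.subgroupOf (P : Subgroup G)).index = 1 by omega)]
            infer_instance
          · exact normal_of_index_eq_two (by omega)
        exact normal_subgroupOf_iff_le_normalizer hQP |>.1 inferInstance
      exact card_dvd_of_le hle
    · refine isSolvable_normalizer (P.2.to_le hQP) h4 fun h16 => ?_
      have h2 : 16 ∣ Nat.card (P : Subgroup G) := by
        have h3 : 2 ^ 4 ∣ Nat.card G := by norm_num; exact h16
        have := P.pow_dvd_card_of_pow_dvd_card (n := 4) h3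
        norm_num at this
        exact this
      exact absurd (Nat.le_of_dvd (by norm_num) (h2.trans hP)) (by norm_num)
  · refine Or.inr ?_
    have hQP' : Q = (P : Subgroup G) := eq_of_le_of_card_ge hQP
      (h8.symm ▸ Nat.le_of_dvd (by norm_num) hP)
    subst hQP'
    exact ⟨h8, fun x hx => congrArg Subtype.val (hsq ⟨x, hx⟩)⟩

end Cfsg.Agent.Lib.HallNumber68
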