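import Cfsg.Agent.Lib.DicksonFull.Action
import Cfsg.Agent.Lib.RecogThree.PSL2Orders
import Mathlib.NumberTheory.LSeries.PrimesInAP

/-!
# Numbers that are not Hall numbers

For a number `m` which is neither a prime power, nor twice an odd number, nor one of `12`, `24`,
`60`, some group `PSL(2, ℓ)` has order exactly divisible by `m` and no subgroup of order `m`.
-/

set_option autoImplicit false

namespace Cfsg.Agent.Lib.HallNumber68

open Matrix
open Cfsg.Agent.Lib

/-- A number with two coprime factors, split between `ℓ - 1` and `ℓ + 1`. -/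
theorem counterexample {ℓ : ℕ} [Fact ℓ.Prime] (hℓ2 : ℓ ≠ 2) {a b u v w : ℕ} (ha : 3 ≤ a)
    (hb : 3 ≤ b) (hu : ℓ = a * u + 1) (hv : ℓ + 1 = b * v) (hw : u * v = 2 * w)
    (hwa : w.Coprime (a * b)) (hℓ : ¬ ℓ ∣ a * b) (h12 : a * b ≠ 12) (h24 : a * b ≠ 24)
    (h60 : a * b ≠ 60) :
    a * b ∣ Nat.card (ProjectiveSpecialLinearGroup (Fin 2) (ZMod ℓ)) ∧
      (a * b).Coprime (Nat.card (ProjectiveSpecialLinearGroup (Fin 2) (ZMod ℓ)) / (a * b)) ∧
      ∀ H : Subgroup (ProjectiveSpecialLinearGroup (Fin 2) (ZMod ℓ)), Nat.card H ≠ a * b := by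
  have hp : ℓ.Prime := Fact.out
  haveI : NeZero ℓ := ⟨hp.ne_zero⟩
  have hcard : Nat.card (ProjectiveSpecialLinearGroup (Fin 2) (ZMod ℓ)) = a * b * (ℓ * w) := by
    have h := Linear.two_mul_card_PSL_two_of_odd (F := ZMod ℓ)
      (by rw [ZMod.card]; exact hp.odd_of_ne_two hℓ2)
    rw [ZMod.card, show ℓ - 1 = a * u by omega, hv] at h
    have e : ℓ * (a * u) * (b * v) = 2 * (a * b * (ℓ * w)) := by
      rw [show ℓ * (a * u) * (b * v) = a * b * ℓ * (u * v) by ring, hw]; ring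
    omega
  refine ⟨hcard ▸ dvd_mul_right _ _, ?_, fun H hH => ?_⟩
  · rw [hcard, Nat.mul_div_cancel_left _ (by positivity)]
    exact Nat.Coprime.mul_right ((hp.coprime_iff_not_dvd.2 hℓ).symm) hwa.symm
  rcases DicksonFull.coprime_cases (p := ℓ) H (hH.symm ▸ hℓ) with ⟨C, hC, hCi⟩ | h | h | h
  · obtain ⟨y, hy⟩ := hC.exists_generator
    have hord : orderOf ((y : H) : ProjectiveSpecialLinearGroup (Fin 2) (ZMod ℓ)) = Nat.card C := by
      rw [Subgroup.orderOf_coe, Subgroup.orderOf_coe, ← orderOf_eq_card_of_forall_mem_zpowers hy]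
    have hcm := C.card_mul_index
    rw [hH] at hcm
    have hi : C.index = 1 ∨ C.index = 2 := by
      have := (Subgroup.index_ne_zero_of_finite : C.index ≠ 0)
      omega
    have hdd : RecogThree.PSL2Orders.dd (Fintype.card (ZMod ℓ)) = 2 := by
      rw [ZMod.card]
      exact if_neg fun h => hℓ2 ((Nat.prime_dvd_prime_iff_eq Nat.prime_two hp).1 h).symm
    have key : ∀ n : ℕ, Nat.card C ∣ n / 2 → 2 ∣ n → a * b ∣ n := by
      intro n hn h2
      obtain ⟨k, rfl⟩ := h2
      rw [Nat.mul_div_cancel_left _ two_pos] at hn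
      rcases hi with e | e <;> rw [e] at hcm <;> rw [← hcm]
      · rw [mul_one]; exact hn.mul_left 2
      · rw [mul_comm]; exact Nat.mul_dvd_mul_left 2 hn
    have hodd := Nat.odd_iff.1 (hp.odd_of_ne_two hℓ2)
    rcases RecogThree.PSL2Orders.orderOf_cases ℓ
        ((y : H) : ProjectiveSpecialLinearGroup (Fin 2) (ZMod ℓ)) with h | h | h
    · rw [hord] at h
      rcases hp.eq_one_or_self_of_dvd _ h with e | e
      · rw [e, one_mul] at hcm
        have : 9 ≤ a * b := Nat.mul_le_mul ha hb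
        omega
      · exact hℓ (by rw [← hcm, e]; exact dvd_mul_right _ _)
    · rw [hord, hdd, ZMod.card] at h
      have h1 := key _ h (by omega)
      have h2 : b ∣ ℓ - 1 := (dvd_mul_left b a).trans h1
      have h3 : b ∣ ℓ + 1 := hv ▸ dvd_mul_right _ _
      have h4 := Nat.dvd_sub h3 h2
      rw [show ℓ + 1 - (ℓ - 1) = 2 by omega] at h4
      have := Nat.le_of_dvd two_pos h4
      omega
    · rw [hord, hdd, ZMod.card] at h
      have h1 := key _ h (by omega)
      have h2 : a ∣ ℓ + 1 := (dvd_mul_right a b).trans h1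
      have h3 : a ∣ ℓ - 1 := ⟨u, by omega⟩
      have h4 := Nat.dvd_sub h2 h3
      rw [show ℓ + 1 - (ℓ - 1) = 2 by omega] at h4
      have := Nat.le_of_dvd two_pos h4
      omega
  · exact h12 (hH ▸ h)
  · exact h24 (hH ▸ h)
  · exact h60 (hH ▸ h)

/-- A split of `m` for the counterexample. -/
theorem exists_split {m : ℕ} (hm : 2 ≤ m) (hpp : ¬ IsPrimePow m) (h4 : m % 4 ≠ 2) :
    ∃ a b : ℕ, m = a * b ∧ a.Coprime b ∧ 3 ≤ a ∧ 3 ≤ b ∧ Odd b ∧ (4 ∣ a ∨ Odd a) := by
  set p := m.minFac with hpdef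
  have hp : p.Prime := Nat.minFac_prime (by omega)
  set k := m.factorization p with hk
  have hdvd : p ^ k ∣ m := Nat.ordProj_dvd m p
  obtain ⟨b, hb⟩ := hdvd
  have hk1 : 1 ≤ k := hp.factorization_pos_of_dvd (by omega) (Nat.minFac_dvd m)
  have hcop : (p ^ k).Coprime b := by
    refine Nat.Coprime.pow_left k (hp.coprime_iff_not_dvd.2 fun h => ?_)
    obtain ⟨c, rfl⟩ := h
    have h2 : p ^ (k + 1) ∣ m := ⟨c, by rw [hb]; ring⟩
    have := (hp.pow_dvd_iff_le_factorization (by omega)).1 h2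
    omega
  have hb1 : 1 < b := by
    rcases Nat.lt_or_ge 1 b with h | h
    · exact h
    · exfalso
      interval_cases b
      · omega
      · exact hpp (by rw [hb, mul_one]; exact hp.isPrimePow.pow (by omega))
  have hb2 : ¬ 2 ∣ b := fun h => by
    have h2m : 2 ∣ m := hb ▸ h.mul_left _
    have hp2 : p = 2 := le_antisymm (Nat.minFac_le_of_dvd le_rfl h2m) hp.two_le
    exact Nat.not_coprime_of_dvd_of_dvd (by norm_num) (dvd_pow_self 2 (show k ≠ 0 by omega))
      h (hp2 ▸ hcop)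
  have hbodd : Odd b := Nat.odd_iff.2 (by omega)
  refine ⟨p ^ k, b, hb, hcop, ?_, by omega, hbodd, ?_⟩
  · rcases eq_or_ne p 2 with h | h
    · rw [h] at hb ⊢
      rcases Nat.lt_or_ge k 2 with h' | h'
      · exfalso
        have hk' : k = 1 := by omega
        obtain ⟨j, rfl⟩ := hbodd
        rw [hk', pow_one] at hb
        omega
      · calc 3 ≤ 2 ^ 2 := by norm_num
          _ ≤ 2 ^ k := Nat.pow_le_pow_right two_pos h'
    · calc 3 ≤ p := by have := hp.two_le; omega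
        _ ≤ p ^ k := Nat.le_self_pow (by omega) p
  · rcases eq_or_ne p 2 with h | h
    · left
      rw [h] at hb ⊢
      rcases Nat.lt_or_ge k 2 with h' | h'
      · exfalso
        have hk' : k = 1 := by omega
        obtain ⟨j, rfl⟩ := hbodd
        rw [hk', pow_one] at hb
        omega
      · exact (show (4 : ℕ) = 2 ^ 2 by norm_num) ▸ Nat.pow_dvd_pow 2 h'
    · exact Or.inr (hp.odd_of_ne_two h).pow

/-- A number which is not in the list is not a Hall number. -/
theorem not_hall {m : ℕ} (hm : 2 ≤ m) (hpp : ¬ IsPrimePow m) (h4 : m % 4 ≠ 2) (h12 : m ≠ 12)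
    (h24 : m ≠ 24) (h60 : m ≠ 60) :
    ∃ (G : Type) (_ : Group G) (_ : Finite G), m ∣ Nat.card G ∧ m.Coprime (Nat.card G / m) ∧
      ∀ H : Subgroup G, Nat.card H ≠ m := by
  obtain ⟨a, b, rfl, hab, ha, hb, hbo, ha4⟩ := exists_split hm hpp h4
  obtain ⟨c, hca, hcb⟩ := Nat.chineseRemainder (hab.pow 2 2) (1 + a) (b - 1)
  have hca1 : c.Coprime a := by
    have h1 : c ≡ 1 [MOD a] := by
      have h2 := hca.of_dvd (dvd_pow_self a two_ne_zero)
      exact h2.trans (by simp [Nat.ModEq])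
    rw [Nat.coprime_iff_gcd_eq_one, h1.gcd_eq, Nat.gcd_one_left]
  have hcb1 : c.Coprime b := by
    have h1 : c + 1 ≡ 0 [MOD b] := by
      have h2 := (hcb.of_dvd (dvd_pow_self b two_ne_zero)).add_right 1
      rw [Nat.sub_add_cancel (by omega)] at h2
      exact h2.trans (by simp [Nat.ModEq])
    refine Nat.coprime_of_dvd fun r hr hrc hrb => ?_
    have h3 := Nat.modEq_zero_iff_dvd.1 (h1.of_dvd hrb)
    exact hr.not_dvd_one ((Nat.dvd_add_right hrc).1 h3)
  obtain ⟨ℓ, hℓgt, hℓ, hℓc⟩ := Nat.forall_exists_prime_gt_and_modEq (a * b + 2)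
    (q := a ^ 2 * b ^ 2) (a := c) (by positivity) ((hca1.pow_right 2).mul_right (hcb1.pow_right 2))
  haveI : Fact ℓ.Prime := ⟨hℓ⟩
  haveI : NeZero ℓ := ⟨hℓ.ne_zero⟩
  have hla : ℓ ≡ 1 + a [MOD a ^ 2] := (hℓc.of_dvd (dvd_mul_right _ _)).trans hca
  have hlb : ℓ ≡ b - 1 [MOD b ^ 2] := (hℓc.of_dvd (dvd_mul_left _ _)).trans hcb
  have hab9 : 9 ≤ a * b := Nat.mul_le_mul ha hb
  have haℓ : 1 + a ≤ ℓ := by
    have : a ≤ a * b := Nat.le_mul_of_pos_right a (by omega)
    omega
  obtain ⟨s, hs⟩ := (Nat.modEq_iff_dvd' haℓ).1 hla.symm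
  have hbℓ : b - 1 ≤ ℓ := by
    have : b ≤ a * b := Nat.le_mul_of_pos_left b (by omega)
    omega
  obtain ⟨r, hr⟩ := (Nat.modEq_iff_dvd' hbℓ).1 hlb.symm
  have hu : ℓ = a * (a * s + 1) + 1 := by
    have : a * (a * s + 1) = a ^ 2 * s + a := by ring
    omega
  have hv : ℓ + 1 = b * (b * r + 1) := by
    have : b * (b * r + 1) = b ^ 2 * r + b := by ring
    omega
  have hℓodd : ℓ % 2 = 1 := Nat.odd_iff.1 (hℓ.odd_of_ne_two (by omega))
  have heven : 2 ∣ (a * s + 1) * (b * r + 1) := by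
    rcases ha4 with h | h
    · refine dvd_mul_of_dvd_right ?_ _
      have h2 : 2 ∣ b * (b * r + 1) := hv ▸ (by omega : 2 ∣ ℓ + 1)
      exact (Nat.prime_two.dvd_mul.1 h2).resolve_left (by rw [Nat.odd_iff] at hbo; omega)
    · refine dvd_mul_of_dvd_left ?_ _
      have h2 : 2 ∣ a * (a * s + 1) := by omega
      exact (Nat.prime_two.dvd_mul.1 h2).resolve_left (by rw [Nat.odd_iff] at h; omega)
  obtain ⟨w, hw⟩ := heven
  have hwb : w.Coprime b := by
    have h1 : ((a * s + 1) * (b * r + 1)).Coprime b := by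
      refine Nat.Coprime.mul_left (Nat.coprime_of_dvd fun q hq hqu hqb => ?_) ?_
      · have h5 : q ∣ ℓ + 1 := hv ▸ hqb.mul_right _
        have h6 : q ∣ ℓ - 1 := by
          rw [show ℓ - 1 = a * (a * s + 1) by omega]; exact hqu.mul_left _
        have h7 := Nat.dvd_sub h5 h6
        rw [show ℓ + 1 - (ℓ - 1) = 2 by omega] at h7
        obtain rfl := (Nat.prime_dvd_prime_iff_eq hq Nat.prime_two).1 h7
        rw [Nat.odd_iff] at hbo
        omega
      · rw [add_comm, Nat.coprime_add_mul_left_left]; exact Nat.coprime_one_left b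
    exact (h1.coprime_dvd_left (hw ▸ dvd_mul_left w 2))
  have hwa : w.Coprime a := by
    refine Nat.coprime_of_dvd fun q hq hqw hqa => ?_
    have h1 : q ∣ (a * s + 1) * (b * r + 1) := hw ▸ hqw.mul_left 2
    rcases hq.dvd_mul.1 h1 with h | h
    · exact hq.not_dvd_one ((Nat.dvd_add_right (hqa.mul_right s)).1 h)
    have h5 : q ∣ ℓ + 1 := hv ▸ h.mul_left _
    have h6 : q ∣ ℓ - 1 := by
      rw [show ℓ - 1 = a * (a * s + 1) by omega]; exact hqa.mul_right _
    have h7 := Nat.dvd_sub h5 h6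
    rw [show ℓ + 1 - (ℓ - 1) = 2 by omega] at h7
    obtain rfl := (Nat.prime_dvd_prime_iff_eq hq Nat.prime_two).1 h7
    rcases ha4 with h4a | hao
    · -- `2 w` would be divisible by four
      obtain ⟨a', rfl⟩ := h4a
      have hodd : Odd ((4 * a' * s + 1) : ℕ) := Nat.odd_iff.2 (by
        rw [show 4 * a' * s = 2 * (2 * a' * s) by ring]; omega)
      have h8 : 4 ∣ (4 * a' * s + 1) * (b * r + 1) := hw ▸ (show (4 : ℕ) = 2 * 2 from rfl) ▸
        Nat.mul_dvd_mul_left 2 hqw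
      have h9 : 4 ∣ b * r + 1 := (Nat.Coprime.pow_left 2
        (Nat.prime_two.coprime_iff_not_dvd.2 (by rw [Nat.odd_iff] at hodd; omega))).dvd_of_dvd_mul_left h8
      have h10 : 4 ∣ ℓ + 1 := hv ▸ h9.mul_left b
      have h11 : ℓ = 4 * (a' * (4 * a' * s + 1)) + 1 := by rw [hu]; ring
      omega
    · rw [Nat.odd_iff] at hao
      omega
  refine ⟨ProjectiveSpecialLinearGroup (Fin 2) (ZMod ℓ), inferInstance, inferInstance,
    counterexample (by omega) ha hb hu hv hw (hwa.mul_right hwb) (fun h => ?_) h12 h24 h60⟩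
  have := Nat.le_of_dvd (by positivity) h
  omega

end Cfsg.Agent.Lib.HallNumber68
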