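import Cfsg.Agent.Lib.HallNumber68.Basic
import Cfsg.Agent.Lib.BenderConsumers23.Simple
import Cfsg.Agent.Lib.BenderSuzuki.Main
import Cfsg.Agent.Lib.Unitary.Transvection
import Cfsg.Agent.S0217

/-!
# Elementary Sylow two-subgroups of order eight whose normaliser has no element of order three

A simple group with such a Sylow subgroup has a strongly embedded subgroup, so its order is a
multiple of nine.
-/

set_option autoImplicit false
set_option linter.style.haveILetI false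

namespace Cfsg.Agent.Lib.HallNumber68

open Subgroup

universe u

variable {T : Type u} [Group T] [Finite T]

omit [Finite T] in
/-- Elements of square one with product of square one commute. -/
theorem comm_of_sq {a b : T} (ha : a * a = 1) (hb : b * b = 1) (hab : a * b * (a * b) = 1) :
    a * b = b * a := by
  rw [← inv_eq_of_mul_eq_one_right hab, mul_inv_rev, inv_eq_of_mul_eq_one_right ha,
    inv_eq_of_mul_eq_one_right hb]

/-- An element of the normaliser fixing an involution centralises the Sylow subgroup. -/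
theorem mem_centralizer_of_fix (S : Sylow 2 T) (h8 : Nat.card (S : Subgroup T) = 8)
    (hsq : ∀ x ∈ (S : Subgroup T), x * x = 1)
    (h3 : ¬ 3 ∣ Nat.card (normalizer ((S : Subgroup T) : Set T))) {a g : T} (ha : a ∈ (S : Subgroup T))
    (ha1 : a ≠ 1) (hg : g ∈ normalizer ((S : Subgroup T) : Set T)) (hga : g * a = a * g) :
    g ∈ centralizer ((S : Subgroup T) : Set T) := by
  haveI := Fact.mk Nat.prime_two
  set φ := (S : Subgroup T).normalizerMonoidHom with hφ
  by_contra hgc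
  have hne : φ ⟨g, hg⟩ ≠ 1 := fun e => hgc (by
    have h1 : (⟨g, hg⟩ : normalizer ((S : Subgroup T) : Set T)) ∈ φ.ker := e
    rw [hφ, normalizerMonoidHom_ker, mem_subgroupOf] at h1
    exact h1)
  obtain ⟨r, hr, hrd⟩ := Nat.exists_prime_and_dvd (mt orderOf_eq_one_iff.1 hne)
  have hr2 : r ≠ 2 := by
    rintro rfl
    have h1 : 2 ∣ φ.ker.index := by
      rw [index_ker]
      exact hrd.trans (by
        rw [show orderOf (φ ⟨g, hg⟩) = orderOf (⟨φ ⟨g, hg⟩, ⟨_, rfl⟩⟩ : φ.range) from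
          (Subgroup.orderOf_mk _ _).symm]
        exact orderOf_dvd_natCard _)
    have h2 : (S : Subgroup T).subgroupOf (normalizer ((S : Subgroup T) : Set T)) ≤ φ.ker := by
      rw [hφ, normalizerMonoidHom_ker]
      intro x hx
      rw [mem_subgroupOf, mem_centralizer_iff] at *
      intro y hy
      exact comm_of_sq (hsq _ hy) (hsq _ hx) (hsq _ (mul_mem hy hx))
    exact S.not_dvd_index (h1.trans ((index_dvd_of_le h2).trans
      (relIndex_dvd_index_of_le le_normalizer)))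
  set β := φ ⟨g, hg⟩ ^ (orderOf (φ ⟨g, hg⟩) / r) with hβ
  have hβo : orderOf β = r := orderOf_pow_orderOf_div (orderOf_pos _).ne' hrd
  haveI := Fact.mk hr
  have hA : IsPGroup r (zpowers β) :=
    IsPGroup.of_card (n := 1) (by rw [Nat.card_zpowers, hβo, pow_one])
  let F : Subgroup (S : Subgroup T) :=
    { carrier := {x | ∀ b ∈ zpowers β, b x = x}
      one_mem' := fun b _ => map_one b
      mul_mem' := fun {x y} hx hy b hb => by rw [map_mul, hx b hb, hy b hb]
      inv_mem' := fun {x} hx b hb => by rw [map_inv, hx b hb] }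
  have hmod : Nat.card (S : Subgroup T) ≡ Nat.card F [MOD r] := by
    refine (hA.card_modEq_card_fixedPoints (S : Subgroup T)).trans ?_
    rw [show Nat.card (MulAction.fixedPoints (zpowers β) (S : Subgroup T)) = Nat.card F from
      Nat.card_congr (Equiv.subtypeEquivRight fun x =>
        ⟨fun h b hb => h ⟨b, hb⟩, fun h b => h b b.2⟩)]
  have hfix : φ ⟨g, hg⟩ ⟨a, ha⟩ = ⟨a, ha⟩ := Subtype.ext (by
    show g * a * g⁻¹ = a
    rw [hga, mul_inv_cancel_right])
  have haF : (⟨a, ha⟩ : (S : Subgroup T)) ∈ F := fun b hb => by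
    have hle : zpowers β ≤ MulAction.stabilizer (MulAut (S : Subgroup T)) (⟨a, ha⟩ : (S : Subgroup T)) :=
      zpowers_le.2 (pow_mem (show φ ⟨g, hg⟩ ∈ _ from hfix) _)
    exact hle hb
  have hF1 : 1 < Nat.card F := F.one_lt_card_iff_ne_bot.2 fun h => ha1 (by
    have := h ▸ haF
    exact congrArg Subtype.val (mem_bot.1 this))
  have hF8 : Nat.card F ≠ 8 := fun h => hr.ne_one (by
    rw [← hβo, orderOf_eq_one_iff]
    have htop : F = ⊤ := eq_top_of_card_eq F (h.trans h8.symm)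
    exact MulEquiv.ext fun x => (htop ▸ mem_top x : x ∈ F) β (mem_zpowers β))
  have hFd := F.card_subgroup_dvd_card
  rw [h8] at hFd hmod
  have hle : Nat.card F ≤ 8 := Nat.le_of_dvd (by norm_num) hFd
  have hd : r ∣ 8 - Nat.card F := (Nat.modEq_iff_dvd' hle).1 hmod.symm
  have hr8 : r ≤ 8 := (Nat.le_of_dvd (by omega) hd).trans (Nat.sub_le _ _)
  have hr3 : r = 3 := by
    have := hr.two_le
    interval_cases hc : Nat.card F <;> interval_cases r <;> simp_all (config := { decide := true })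
  refine h3 (hr3 ▸ hrd.trans ((orderOf_map_dvd φ _).trans (orderOf_dvd_natCard _)))

/-- The set of elements of odd order of the centraliser, generated. -/
def theta (a : T) : Subgroup T :=
  closure {x | x ∈ centralizer ({a} : Set T) ∧ Odd (orderOf x)}

/-- The centraliser of an involution has a normal `2`-complement. -/
theorem theta_spec (S : Sylow 2 T) (h8 : Nat.card (S : Subgroup T) = 8)
    (hsq : ∀ x ∈ (S : Subgroup T), x * x = 1)
    (h3 : ¬ 3 ∣ Nat.card (normalizer ((S : Subgroup T) : Set T))) {a : T} (ha : a ∈ (S : Subgroup T))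
    (ha1 : a ≠ 1) :
    (∀ x, x ∈ theta a ↔ x ∈ centralizer ({a} : Set T) ∧ Odd (orderOf x)) ∧
      ∀ x ∈ centralizer ({a} : Set T), ∃ s ∈ (S : Subgroup T), x * s⁻¹ ∈ theta a := by
  haveI := Fact.mk Nat.prime_two
  set C := centralizer ({a} : Set T)
  have hcomm : ∀ x ∈ (S : Subgroup T), a * x = x * a := fun x hx => by
    exact comm_of_sq (hsq _ ha) (hsq _ hx) (hsq _ (mul_mem ha hx))
  have hSC : (S : Subgroup T) ≤ C := fun x hx => mem_centralizer_singleton_iff.2 (hcomm x hx).symm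
  set P := S.subtype hSC with hP
  have hmap : (P : Subgroup C).map C.subtype = (S : Subgroup T) := by
    rw [hP, Sylow.coe_subtype, map_subgroupOf_eq_of_le hSC]
  have hN : normalizer ((P : Subgroup C) : Set C) ≤ centralizer ((P : Subgroup C) : Set C) := by
    intro g hg
    have hg' : (g : T) ∈ normalizer ((S : Subgroup T) : Set T) :=
      hmap ▸ le_normalizer_map C.subtype (mem_map_of_mem C.subtype hg)
    have h1 := mem_centralizer_of_fix S h8 hsq h3 ha ha1 hg' (mem_centralizer_singleton_iff.1 g.2)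
    rw [mem_centralizer_iff]
    intro y hy
    exact Subtype.ext (mem_centralizer_iff.1 h1 y hy)
  set f := MonoidHom.transferSylow P hN with hf
  have hc := MonoidHom.ker_transferSylow_isComplement' P hN
  have hodd : ¬ 2 ∣ Nat.card f.ker := MonoidHom.not_dvd_card_ker_transferSylow P hN
  have hmem : ∀ x : C, x ∈ f.ker ↔ Odd (orderOf x) := fun x => by
    constructor
    · intro hx
      exact Nat.odd_iff.2 (Nat.two_dvd_ne_zero.1 fun h => hodd (h.trans (f.ker.orderOf_dvd_natCard hx)))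
    · intro hx
      obtain ⟨k, hk⟩ := P.2 (f x)
      rw [MonoidHom.mem_ker, ← orderOf_eq_one_iff]
      exact Nat.Coprime.eq_one_of_dvd (((Nat.coprime_two_left.2 hx).pow_left k).symm.coprime_dvd_left
        (orderOf_map_dvd f x)) (orderOf_dvd_of_pow_eq_one hk)
  have heq : theta a = f.ker.map C.subtype := by
    refine le_antisymm ((closure_le _).2 fun x hx => ?_) ?_
    · exact ⟨⟨x, hx.1⟩, (hmem _).2 (by rw [Subgroup.orderOf_mk]; exact hx.2), rfl⟩
    · rintro _ ⟨x, hx, rfl⟩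
      exact subset_closure ⟨x.2, by rw [Subgroup.coe_subtype, Subgroup.orderOf_coe]; exact (hmem x).1 hx⟩
  constructor
  · intro x
    rw [heq]
    constructor
    · rintro ⟨y, hy, rfl⟩
      exact ⟨y.2, by rw [Subgroup.coe_subtype, Subgroup.orderOf_coe]; exact (hmem y).1 hy⟩
    · rintro ⟨h1, h2⟩
      exact ⟨⟨x, h1⟩, (hmem _).2 (by rw [Subgroup.orderOf_mk]; exact h2), rfl⟩
  · intro x hx
    obtain ⟨⟨k, s⟩, hks⟩ := hc.existsUnique ⟨x, hx⟩ |>.exists
    refine ⟨((s : C) : T), hmap ▸ mem_map_of_mem C.subtype s.2, heq ▸ ⟨(k : C), k.2, ?_⟩⟩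
    have h1 : ((k : C) : T) * ((s : C) : T) = x := congrArg Subtype.val hks
    rw [Subgroup.coe_subtype, ← h1, mul_inv_cancel_right]

/-- The strongly embedded subgroup. -/
theorem exists_stronglyEmbedded [IsSimpleGroup T] (hna : ∃ a b : T, a * b ≠ b * a) (S : Sylow 2 T)
    (h8 : Nat.card (S : Subgroup T) = 8) (hsq : ∀ x ∈ (S : Subgroup T), x * x = 1)
    (h3 : ¬ 3 ∣ Nat.card (normalizer ((S : Subgroup T) : Set T))) :
    ∃ M : Subgroup T, Cfsg.IsStronglyEmbedded M := by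
  haveI := Fact.mk Nat.prime_two
  have hsp := fun (a : T) ha ha1 => theta_spec S h8 hsq h3 (a := a) ha ha1
  have hcomm : ∀ a ∈ (S : Subgroup T), ∀ b ∈ (S : Subgroup T), a * b = b * a := fun a ha b hb => by
    exact comm_of_sq (hsq _ ha) (hsq _ hb) (hsq _ (mul_mem ha hb))
  have hodd : ∀ a ∈ (S : Subgroup T), a ≠ 1 → ¬ 2 ∣ Nat.card (theta a) := fun a ha ha1 h => by
    obtain ⟨x, hx⟩ := exists_prime_orderOf_dvd_card' 2 h
    have h1 := (((hsp a ha ha1).1 x).1 x.2).2
    rw [Subgroup.orderOf_coe, hx] at h1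
    exact absurd h1 (by decide)
  have hS := Cfsg.Agent.S0217.result (p := 2) (S : Subgroup T) hcomm
    (fun a ha => by rw [pow_two]; exact hsq a ha) (by rw [h8]; norm_num) theta
    (fun a ha ha1 x hx => (((hsp a ha ha1).1 x).1 hx).1) hodd
    (fun a ha ha1 b hb x hx => by
      obtain ⟨h1, h2⟩ := ((hsp a ha ha1).1 x).1 hx
      refine ((hsp a ha ha1).1 _).2 ⟨?_, by rwa [← MulAut.conj_apply, MulEquiv.orderOf_eq]⟩
      have hbc : b ∈ centralizer ({a} : Set T) :=
        mem_centralizer_singleton_iff.2 (hcomm a ha b hb).symm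
      exact mul_mem (mul_mem hbc h1) (inv_mem hbc))
    (fun a ha ha1 => Cfsg.Agent.S0205.result (Nat.odd_iff.2 (Nat.two_dvd_ne_zero.1 (hodd a ha ha1))))
    (fun a ha ha1 b hb hb1 x hx => ((hsp b hb hb1).1 x).2
      ⟨(mem_inf.1 hx).2, (((hsp a ha ha1).1 x).1 (mem_inf.1 hx).1).2⟩)
  set W := ⨆ a : {a : T // a ∈ (S : Subgroup T) ∧ a ≠ 1}, theta (a : T) with hW
  set N := normalizer ((S : Subgroup T) : Set T) with hNdef
  have hNW : N ≤ normalizer (W : Set T) := by
    have key : ∀ g ∈ N, W.map (MulAut.conj g).toMonoidHom ≤ W := by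
      intro g hg
      rw [hW, Subgroup.map_iSup]
      refine iSup_le fun a => ?_
      have hga : g * (a : T) * g⁻¹ ∈ (S : Subgroup T) ∧ g * (a : T) * g⁻¹ ≠ 1 :=
        ⟨(mem_normalizer_iff.1 hg _).1 a.2.1, fun h => a.2.2 (conj_eq_one_iff.1 h)⟩
      refine le_trans ?_ (le_iSup (fun b : {a : T // a ∈ (S : Subgroup T) ∧ a ≠ 1} => theta (b : T))
        ⟨g * (a : T) * g⁻¹, hga⟩)
      rintro _ ⟨x, hx, rfl⟩
      obtain ⟨h1, h2⟩ := ((hsp _ a.2.1 a.2.2).1 x).1 hx
      refine ((hsp _ hga.1 hga.2).1 _).2 ⟨mem_centralizer_singleton_iff.2 ?_,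
        by rw [MulEquiv.coe_toMonoidHom, MulEquiv.orderOf_eq]; exact h2⟩
      show g * x * g⁻¹ * (g * a * g⁻¹) = g * a * g⁻¹ * (g * x * g⁻¹)
      rw [← MulAut.conj_apply, ← MulAut.conj_apply, ← map_mul,
        mem_centralizer_singleton_iff.1 h1, map_mul]
    intro g hg
    rw [mem_normalizer_iff]
    intro x
    refine ⟨fun hx => key g hg ⟨x, hx, rfl⟩, fun hx => ?_⟩
    have h1 := key g⁻¹ (inv_mem hg) ⟨g * x * g⁻¹, hx, rfl⟩
    simpa [mul_assoc] using h1
  have hST : (S : Subgroup T) ≠ ⊤ := fun h => by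
    obtain ⟨a, b, hab⟩ := hna
    exact hab (hcomm a (h ▸ mem_top a) b (h ▸ mem_top b))
  have hM : W ⊔ N ≠ ⊤ := fun h => by
    have hWn : W.Normal := normalizer_eq_top_iff.1 (top_le_iff.1 (h ▸ sup_le le_normalizer hNW))
    rcases Normal.eq_bot_or_eq_top hWn with hb | ht
    · rw [hb, bot_sup_eq] at h
      rcases Normal.eq_bot_or_eq_top (normalizer_eq_top_iff.1 h) with h1 | h1
      · rw [h1, card_bot] at h8; omega
      · exact hST h1
    · have h2 := hS.1
      rw [ht, card_top] at h2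
      exact h2 (((by norm_num : 2 ∣ 8).trans (h8 ▸ dvd_rfl)).trans (S : Subgroup T).card_subgroup_dvd_card)
  have hSM : (S : Subgroup T) ≤ W ⊔ N := le_normalizer.trans le_sup_right
  refine ⟨W ⊔ N, Involutions.StronglyEmbedded.of_forall_conj hM ?_ fun t htM ht g hg => ?_⟩
  · rw [even_iff_two_dvd]
    exact ((by norm_num : 2 ∣ 8).trans (h8 ▸ dvd_rfl)).trans (card_dvd_of_le hSM)
  have key : ∀ t : T, t ∈ W ⊔ N → orderOf t = 2 →
      ∃ m ∈ W ⊔ N, m * t * m⁻¹ ∈ (S : Subgroup T) := by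
    intro t htM ht
    have hpg : IsPGroup 2 (zpowers (⟨t, htM⟩ : ↥(W ⊔ N))) :=
      IsPGroup.of_card (n := 1) (by rw [Nat.card_zpowers, Subgroup.orderOf_mk, ht, pow_one])
    obtain ⟨P, hP⟩ := hpg.exists_le_sylow
    obtain ⟨m, hm⟩ := MulAction.exists_smul_eq ↥(W ⊔ N) P (S.subtype hSM)
    refine ⟨m, m.2, ?_⟩
    have h1 : m * ⟨t, htM⟩ * m⁻¹ ∈ (S.subtype hSM : Subgroup ↥(W ⊔ N)) := by
      rw [← hm, Sylow.coe_subgroup_smul]
      exact ⟨⟨t, htM⟩, hP (mem_zpowers _), rfl⟩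
    exact h1
  obtain ⟨m, hm, hmS⟩ := key t htM ht
  obtain ⟨m', hm', hmS'⟩ := key _ hg ((MulAut.conj g).orderOf_eq t ▸ ht)
  haveI : IsMulCommutative (S : Subgroup T) := ⟨⟨fun a b => Subtype.ext (hcomm a a.2 b b.2)⟩⟩
  set h := m' * g * m⁻¹ with hh
  have e1 : h * (m * t * m⁻¹) * h⁻¹ = m' * (g * t * g⁻¹) * m'⁻¹ := by rw [hh]; group
  obtain ⟨n, hn, hne⟩ := S.conj_eq_normalizer_conj_of_mem (m * t * m⁻¹) h⁻¹ hmS
    (by rw [inv_inv, e1]; exact hmS')
  rw [inv_inv] at hne
  have hnt : n * h ∈ centralizer ({m * t * m⁻¹} : Set T) := by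
    rw [mem_centralizer_singleton_iff]
    calc n * h * (m * t * m⁻¹) = n * (h * (m * t * m⁻¹) * h⁻¹) * h := by group
      _ = n * (n⁻¹ * (m * t * m⁻¹) * n) * h := by rw [hne]
      _ = m * t * m⁻¹ * (n * h) := by group
  have ha1 : m * t * m⁻¹ ≠ 1 := fun e => by
    rw [conj_eq_one_iff] at e
    rw [e, orderOf_one] at ht
    omega
  obtain ⟨s, hs, hsθ⟩ := (hsp _ hmS ha1).2 _ hnt
  have hnh : n * h ∈ W ⊔ N := by
    have h1 : n * h * s⁻¹ ∈ W := le_iSup (fun b : {a : T // a ∈ (S : Subgroup T) ∧ a ≠ 1} =>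
      theta (b : T)) ⟨_, hmS, ha1⟩ hsθ
    have h2 := mul_mem (mem_sup_left (T := N) h1) (hSM hs)
    rwa [inv_mul_cancel_right] at h2
  have hn' : n ∈ W ⊔ N := mem_sup_right hn
  have h2 := mul_mem (mul_mem (inv_mem hm') (mul_mem (inv_mem hn') hnh)) hm
  simpa [hh, mul_assoc] using h2

/-- Such a simple group has order divisible by nine. -/
theorem nine_dvd_card {T : Type u} [Group T] [Finite T] [IsSimpleGroup T]
    (hP : BenderConsumers23.PropPartOne.{u}) (hna : ∃ a b : T, a * b ≠ b * a) (S : Sylow 2 T)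
    (h8 : Nat.card (S : Subgroup T) = 8) (hsq : ∀ x ∈ (S : Subgroup T), x * x = 1)
    (h3 : ¬ 3 ∣ Nat.card (normalizer ((S : Subgroup T) : Set T))) : 9 ∣ Nat.card T := by
  haveI := Fact.mk Nat.prime_two
  obtain ⟨M, hM⟩ := exists_stronglyEmbedded hna S h8 hsq h3
  have h16 : ¬ 2 ^ 4 ∣ Nat.card T := fun h => by
    have := Nat.le_of_dvd Nat.card_pos (S.pow_dvd_card_of_pow_dvd_card (n := 4) h)
    rw [h8] at this
    norm_num at this
  rcases BenderConsumers23.row0222 hP BenderSuzuki.propMain hna M hM with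
    ⟨F, _, _, hc, hq, ⟨e⟩⟩ | ⟨-, m, hm, hcard⟩ | ⟨F, _, _, q, hF, hqe, hq, ⟨e⟩⟩
  · haveI := hc
    obtain ⟨n, -, hn⟩ := FiniteField.card F 2
    have hX := Linear.gcd_mul_card_PSL_two (F := F)
    rw [← Nat.card_congr e.toEquiv] at hX
    have hn0 : (n : ℕ) ≠ 0 := n.pos.ne'
    generalize (n : ℕ) = k at hn hn0
    rw [hn] at hq hX
    have hg : Nat.gcd 2 (2 ^ k - 1) = 1 := by
      have : Odd (2 ^ k - 1) := Nat.Even.sub_odd Nat.one_le_two_pow
        (Nat.even_pow.2 ⟨even_two, hn0⟩) odd_one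
      exact Nat.coprime_two_left.2 this
    rw [hg, one_mul] at hX
    have hk3 : k ≤ 3 := by
      by_contra h
      exact h16 ((Nat.pow_dvd_pow 2 (by omega)).trans (hX ▸ (dvd_mul_right _ _).mul_right _))
    have h8T : 8 ∣ Nat.card T := h8 ▸ (S : Subgroup T).card_subgroup_dvd_card
    interval_cases k <;> simp_all <;> omega
  · exfalso
    refine h16 (hcard ▸ ((?_ : 2 ^ 4 ∣ (2 ^ (2 * m + 1)) ^ 2).mul_right _).mul_right _)
    rw [← pow_mul]; exact Nat.pow_dvd_pow 2 (by omega)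
  · exfalso
    obtain ⟨r, k, hr, -, hk⟩ := (isPrimePow_nat_iff _).1 (FiniteField.isPrimePow_card F)
    rw [hF] at hk
    have hr2 : r = 2 := ((Nat.prime_dvd_prime_iff_eq Nat.prime_two hr).1
      (Nat.prime_two.dvd_of_dvd_pow (hk ▸ (hqe.two_dvd.pow two_ne_zero) :))).symm
    subst hr2
    obtain ⟨j, -, rfl⟩ := (Nat.dvd_prime_pow Nat.prime_two).1 (hk ▸ dvd_pow_self q two_ne_zero :)
    have hj : 2 ≤ j := by
      by_contra h
      have : 2 ^ j ≤ 2 ^ 1 := Nat.pow_le_pow_right (by norm_num) (by omega)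
      omega
    have h1 := Unitary.card_PSU (F := F) hF (by norm_num : 2 ≤ 3)
    have h2 := Unitary.card_SU (F := F) hF (by norm_num : 1 ≤ 3)
    rw [← h1, Unitary.card_GU (F := F) hF 3, ← Nat.card_congr e.toEquiv, ← mul_assoc] at h2
    have hodd : Odd (2 ^ j + 1) := Even.add_one (Nat.even_pow.2 ⟨even_two, by omega⟩)
    have h3 : 2 ^ 4 ∣ (2 ^ j + 1) * Nat.gcd 3 (2 ^ j + 1) * Nat.card T := by
      rw [h2]
      refine Dvd.dvd.mul_right ?_ _
      rw [← pow_mul]; exact Nat.pow_dvd_pow 2 (by norm_num; omega)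
    exact h16 (Nat.Coprime.dvd_of_dvd_mul_left (((Nat.coprime_two_left.2 hodd).mul_right
      (Nat.coprime_two_left.2 (hodd.of_dvd_nat (Nat.gcd_dvd_right _ _)))).pow_left 4) h3)

end Cfsg.Agent.Lib.HallNumber68
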