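import Cfsg.Prelude.Def_CaseTheorems
import Cfsg.Agent.Lib.HallNumber68.Basic
import Cfsg.Agent.Lib.Cores.Basic
import Cfsg.Agent.Lib.DicksonFull.Exist
import Cfsg.Agent.Lib.DicksonId.OddArith
import Mathlib.GroupTheory.SchurZassenhaus
import Mathlib.GroupTheory.SpecificGroups.KleinFour

/-!
# Twelve and sixty are Hall numbers

The case `60` uses the theorem of Gorenstein and Walter for perfect groups, as a hypothesis.
-/

set_option autoImplicit false
set_option linter.style.haveILetI false

namespace Cfsg.Agent.Lib.HallNumber68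

open Subgroup

universe u

/-- The Gorenstein-Walter theorem for perfect groups. -/
def GWPerfect.{w} : Prop :=
  ∀ (X : Type w) [Group X] [Finite X] [Group.IsPerfect X] (S : Sylow 2 X) (n : ℕ), 2 ≤ n →
    Nonempty ((S : Subgroup X) ≃* DihedralGroup n) →
    (∃ (F : Type) (_ : Field F) (_ : Fintype F), Odd (Fintype.card F) ∧ 3 < Fintype.card F ∧
        Nonempty (X ⧸ Cfsg.oddCore X ≃* Matrix.ProjectiveSpecialLinearGroup (Fin 2) F)) ∨
      Nonempty (X ⧸ Cfsg.oddCore X ≃* alternatingGroup (Fin 7))

variable {G : Type u} [Group G] [Finite G]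

/-- The data at a group of order exactly divisible by four and three. -/
theorem exists_sylow_four (hns : ¬ Group.IsSolvable G) (h4 : 4 ∣ Nat.card G) (h8 : ¬ 8 ∣ Nat.card G) :
    ∃ P : Sylow 2 G, Nat.card (P : Subgroup G) = 4 ∧
      3 ∣ Nat.card (normalizer ((P : Subgroup G) : Set G)) ∧
      Group.IsSolvable (normalizer ((P : Subgroup G) : Set G)) := by
  haveI := Fact.mk Nat.prime_two
  obtain ⟨P⟩ : Nonempty (Sylow 2 G) := inferInstance
  have hP : Nat.card (P : Subgroup G) = 4 := by
    obtain ⟨k, hk⟩ := IsPGroup.iff_card.1 P.2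
    have h1 : 2 ^ 2 ∣ Nat.card (P : Subgroup G) := P.pow_dvd_card_of_pow_dvd_card (n := 2) h4
    rw [hk] at h1
    have h3 := (Nat.pow_dvd_pow_iff_le_right (by norm_num : 1 < 2)).1 h1
    have h2 : k ≤ 2 := by
      by_contra h
      exact h8 ((hk ▸ (show (8 : ℕ) = 2 ^ 3 by norm_num) ▸ Nat.pow_dvd_pow 2 (by omega : 3 ≤ k) :
        8 ∣ Nat.card (P : Subgroup G)).trans (P : Subgroup G).card_subgroup_dvd_card)
    rw [hk, show k = 2 by omega]; norm_num
  rcases exists_three_or hns P (hP ▸ by norm_num) with ⟨Q, hQ, hQ4, h3, -, hs⟩ | ⟨h, -⟩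
  · have hQP : Q = (P : Subgroup G) :=
      eq_of_le_of_card_ge hQ (hP.symm ▸ Nat.le_of_dvd Nat.card_pos hQ4)
    subst hQP
    exact ⟨P, hP, h3, hs⟩
  · omega

/-- Twelve is a Hall number. -/
theorem hall_twelve (hd : 12 ∣ Nat.card G) (hcop : Nat.Coprime 12 (Nat.card G / 12)) :
    ∃ H : Subgroup G, Nat.card H = 12 := by
  by_cases hsol : Group.IsSolvable G
  · haveI : Group.IsSolvable (⊤ : Subgroup G) := inferInstance
    exact exists_card_of_solvable ⊤ hcop (by rwa [card_top])
  obtain ⟨r, hr⟩ := hd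
  have h8 : ¬ 8 ∣ Nat.card G := fun h => by
    rw [hr, Nat.mul_div_cancel_left _ (by norm_num)] at hcop
    have h2 : 2 ∣ r := by omega
    exact Nat.prime_two.ne_one (Nat.dvd_one.1 (hcop ▸ Nat.dvd_gcd (by norm_num) h2))
  obtain ⟨P, hP, h3, hs⟩ := exists_sylow_four hsol (by rw [hr]; omega) h8
  haveI := hs
  refine exists_card_of_solvable (normalizer ((P : Subgroup G) : Set G)) hcop ?_
  have h4 : 4 ∣ Nat.card (normalizer ((P : Subgroup G) : Set G)) :=
    hP ▸ card_dvd_of_le le_normalizer
  exact Nat.Coprime.mul_dvd_of_dvd_of_dvd (by norm_num : Nat.Coprime 4 3) h4 h3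

/-- `PSL(2, q)` with five dividing its order has a subgroup of order sixty. -/
theorem exists_sixty_psl {F : Type} [Field F] [Fintype F] (hodd : Odd (Fintype.card F))
    (h5 : 5 ∣ Nat.card (Matrix.ProjectiveSpecialLinearGroup (Fin 2) F)) :
    ∃ A : Subgroup (Matrix.ProjectiveSpecialLinearGroup (Fin 2) F), Nat.card A = 60 := by
  have h2 : (2 : F) ≠ 0 := fun h => by
    have hch : ringChar F = 2 := CharP.ringChar_of_prime_eq_zero Nat.prime_two (by exact_mod_cast h)
    exact Nat.not_even_iff_odd.2 hodd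
      (Nat.even_iff.2 (FiniteField.even_card_of_char_two hch))
  obtain ⟨r, hr⟩ : ∃ r : F, r ^ 2 = 5 := by
    have h : 5 ∣ Fintype.card F * (Fintype.card F - 1) * (Fintype.card F + 1) :=
      Linear.two_mul_card_PSL_two_of_odd hodd ▸ h5.mul_left 2
    by_cases h0 : 5 ∣ Fintype.card F
    · obtain ⟨p, hp⟩ := CharP.exists F
      obtain ⟨n, hpp, hn⟩ := FiniteField.card F p
      obtain rfl : 5 = p := (Nat.prime_dvd_prime_iff_eq (by norm_num) hpp).1
        ((by norm_num : Nat.Prime 5).dvd_of_dvd_pow (hn ▸ h0))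
      refine ⟨0, ?_⟩
      rw [zero_pow two_ne_zero]
      exact_mod_cast (CharP.cast_eq_zero F 5).symm
    · refine DicksonId.isSquare_five h2 ?_
      rcases (Nat.Prime.dvd_mul (by norm_num : Nat.Prime 5)).1 h with h | h
      · rcases (Nat.Prime.dvd_mul (by norm_num : Nat.Prime 5)).1 h with h | h
        · exact absurd h h0
        · omega
      · omega
  obtain ⟨φ, hφ⟩ := DicksonFull.exists_alt_five h2 hr
  refine ⟨φ.range, ?_⟩
  rw [← Nat.card_congr (MonoidHom.ofInjective hφ).toEquiv, nat_card_alternatingGroup, Nat.card_fin]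
  rfl

/-- Sixty is a Hall number. -/
theorem hall_sixty (hGW : GWPerfect.{u}) (hd : 60 ∣ Nat.card G)
    (hcop : Nat.Coprime 60 (Nat.card G / 60)) : ∃ H : Subgroup G, Nat.card H = 60 := by
  classical
  haveI := Fact.mk Nat.prime_two
  by_cases hsol : Group.IsSolvable G
  · haveI : Group.IsSolvable (⊤ : Subgroup G) := inferInstance
    exact exists_card_of_solvable ⊤ hcop (by rwa [card_top])
  obtain ⟨r, hr⟩ := hd
  have hcopr : Nat.Coprime 60 r := by rwa [hr, Nat.mul_div_cancel_left _ (by norm_num)] at hcop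
  have hpr : ∀ p : ℕ, p.Prime → p ∣ 60 → ¬ p ∣ r := fun p hp h h' =>
    hp.ne_one (Nat.dvd_one.1 (hcopr ▸ Nat.dvd_gcd h h'))
  have h8 : ¬ 8 ∣ Nat.card G := fun h => hpr 2 Nat.prime_two (by norm_num) (by rw [hr] at h; omega)
  obtain ⟨P, hP, h3, hs⟩ := exists_sylow_four hsol (by rw [hr]; omega) h8
  haveI := hs
  set N := normalizer ((P : Subgroup G) : Set G) with hN
  obtain ⟨X, ⟨hXn, hXs⟩, hmin⟩ := Set.Finite.exists_minimal
    (Set.toFinite {X : Subgroup G | X.Normal ∧ ¬ Group.IsSolvable X})
    ⟨⊤, inferInstance, fun h => hsol (Group.isSolvable_of_surjective (f := (⊤ : Subgroup G).subtype)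
      fun g => ⟨⟨g, mem_top g⟩, rfl⟩)⟩
  haveI := hXn
  haveI hperf : Group.IsPerfect X := by
    refine Subgroup.isPerfect_iff.2 (le_antisymm (commutator_le_self X) (hmin ⟨inferInstance, ?_⟩
      (commutator_le_self X)))
    intro h
    apply hXs
    haveI : Group.IsSolvable (_root_.commutator X) := by
      haveI := h
      refine Group.isSolvable_of_surjective
        (f := (((_root_.commutator X).equivMapOfInjective X.subtype X.subtype_injective).trans
          (MulEquiv.subgroupCongr X.map_subtype_commutator)).symm.toMonoidHom) ?_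
      exact MulEquiv.surjective _
    haveI : Group.IsSolvable (X ⧸ _root_.commutator X) :=
      Group.isSolvable_of_comm fun a b => (inferInstance : IsMulCommutative (Abelianization X)).is_comm.comm a b
    exact Group.isSolvable_of_ker_le_range (_root_.commutator X).subtype
      (QuotientGroup.mk' (_root_.commutator X)) (by rw [QuotientGroup.ker_mk', range_subtype])
  have hX4 : 4 ∣ Nat.card X := by
    by_contra h
    exact hXs (isSolvable_of_not_four_dvd h)
  obtain ⟨S⟩ : Nonempty (Sylow 2 X) := inferInstance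
  have hS : Nat.card (S : Subgroup X) = 4 := by
    obtain ⟨k, hk⟩ := IsPGroup.iff_card.1 S.2
    have h1 : 2 ^ 2 ∣ Nat.card (S : Subgroup X) := S.pow_dvd_card_of_pow_dvd_card (n := 2) hX4
    rw [hk] at h1
    have h3 := (Nat.pow_dvd_pow_iff_le_right (by norm_num : 1 < 2)).1 h1
    have h2 : k ≤ 2 := by
      by_contra h
      exact h8 (((hk ▸ (show (8 : ℕ) = 2 ^ 3 by norm_num) ▸ Nat.pow_dvd_pow 2 (by omega : 3 ≤ k) :
        8 ∣ Nat.card (S : Subgroup X)).trans (S : Subgroup X).card_subgroup_dvd_card).trans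
          X.card_subgroup_dvd_card)
    rw [hk, show k = 2 by omega]; norm_num
  have hSd : Nonempty ((S : Subgroup X) ≃* DihedralGroup 2) := by
    by_cases hc : IsCyclic (S : Subgroup X)
    · exfalso
      have hmin2 : (Nat.card X).minFac = 2 :=
        Nat.minFac_eq_two_iff _ |>.2 ((by norm_num : 2 ∣ 4).trans hX4)
      have hn := hc.normalizer_le_centralizer hmin2
      exact hXs (isSolvable_of_hasNormalPComplement ⟨S, (MonoidHom.transferSylow S hn).ker,
        inferInstance, MonoidHom.ker_transferSylow_isComplement' S hn⟩)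
    haveI : IsKleinFour (S : Subgroup X) := by
      refine ⟨hS, ?_⟩
      refine Nat.dvd_antisymm (Monoid.exponent_dvd.2 fun x => ?_) ?_
      · have h1 : orderOf x ∣ 2 ^ 2 := (orderOf_dvd_natCard x).trans (by rw [hS]; norm_num)
        obtain ⟨j, hj, hje⟩ := (Nat.dvd_prime_pow Nat.prime_two).1 h1
        rcases Nat.lt_or_ge j 2 with hj2 | hj2
        · rw [hje]; exact (Nat.pow_dvd_pow 2 (by omega : j ≤ 1))
        · exact absurd (isCyclic_of_orderOf_eq_card x (by rw [hje, show j = 2 by omega, hS]; rfl)) hc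
      · obtain ⟨x, hx⟩ := exists_prime_orderOf_dvd_card' (G := (S : Subgroup X)) 2 (by rw [hS]; norm_num)
        have h1 := Monoid.order_dvd_exponent x
        rwa [hx] at h1
    exact IsKleinFour.nonempty_mulEquiv
  set O := Cfsg.oddCore X with hO
  haveI : (O.map X.subtype).Normal := Cores.normal_map_subtype X O
  have hOodd : ¬ 2 ∣ Nat.card O := Cores.not_dvd_card_pPrimeCore 2
  haveI hOs : Group.IsSolvable O := Cfsg.Agent.S0205.result (Nat.odd_iff.2 (Nat.two_dvd_ne_zero.1 hOodd))
  have h12 : 12 ∣ Nat.card N := by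
    have h4 : 4 ∣ Nat.card N := hP ▸ card_dvd_of_le le_normalizer
    exact Nat.Coprime.mul_dvd_of_dvd_of_dvd (by norm_num : Nat.Coprime 4 3) h4 h3
  by_cases h5 : 5 ∣ Nat.card (X ⧸ O)
  swap
  · -- the solvable subgroup `O(X) N(P)` works
    set K := O.map X.subtype ⊔ N with hK
    haveI : Group.IsSolvable K := by
      haveI : Group.IsSolvable ((O.map X.subtype).subgroupOf K) := by
        refine Group.isSolvable_of_surjective (f := ((O.equivMapOfInjective X.subtype
          X.subtype_injective).trans (subgroupOfEquivOfLe le_sup_left).symm).toMonoidHom) ?_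
        exact MulEquiv.surjective _
      haveI : Group.IsSolvable (K ⧸ (O.map X.subtype).subgroupOf K) := by
        refine Group.isSolvable_of_surjective
          (f := (QuotientGroup.mk' _).comp (inclusion (le_sup_right : N ≤ K))) fun y => ?_
        obtain ⟨⟨k, hk⟩, rfl⟩ := QuotientGroup.mk'_surjective _ y
        obtain ⟨o, ho, n, hn, rfl⟩ := mem_sup_of_normal_left.1 hk
        refine ⟨⟨n, hn⟩, (QuotientGroup.eq (s := (O.map X.subtype).subgroupOf K)).2 ?_⟩
        rw [mem_subgroupOf]
        have h1 := (inferInstance : (O.map X.subtype).Normal).conj_mem o ho n⁻¹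
        simpa [mul_assoc] using h1
      exact Group.isSolvable_of_ker_le_range ((O.map X.subtype).subgroupOf K).subtype
        (QuotientGroup.mk' ((O.map X.subtype).subgroupOf K)) (by rw [QuotientGroup.ker_mk', range_subtype])
    refine exists_card_of_solvable K hcop ?_
    have hXP : (P : Subgroup G) ≤ X := by
      obtain ⟨k, hk⟩ := IsPGroup.iff_card.1 P.2
      have hmap : IsPGroup 2 ((S : Subgroup X).map X.subtype) := S.2.map _
      obtain ⟨R, hR⟩ := hmap.exists_le_sylow
      have hR4 : (S : Subgroup X).map X.subtype = R := eq_of_le_of_card_ge hR (by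
        rw [card_map_of_injective X.subtype_injective, hS, Sylow.card_eq_multiplicity R,
          ← Sylow.card_eq_multiplicity P, hP])
      obtain ⟨c, hc⟩ := MulAction.exists_smul_eq G R P
      intro x hx
      rw [← hc, Sylow.coe_subgroup_smul] at hx
      obtain ⟨y, hy, rfl⟩ := hx
      exact hXn.conj_mem y (map_subtype_le _ (hR4 ▸ hy)) c
    have hfr : N ⊔ X = ⊤ := Sylow.normalizer_sup_eq_top' P hXP
    have hGd : Nat.card G ∣ Nat.card N * Nat.card X := by
      rw [← card_top (G := G), ← hfr]; exact Cores.card_sup_dvd_mul N X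
    rw [card_eq_card_quotient_mul_card_subgroup O] at hGd
    have h5' : 5 ∣ Nat.card N ∨ 5 ∣ Nat.card O := by
      have h : 5 ∣ Nat.card N * (Nat.card (X ⧸ O) * Nat.card O) :=
        ((by rw [hr]; omega : 5 ∣ Nat.card G)).trans hGd
      rcases (Nat.Prime.dvd_mul (by norm_num : Nat.Prime 5)).1 h with h | h
      · exact Or.inl h
      · exact Or.inr (((Nat.Prime.dvd_mul (by norm_num : Nat.Prime 5)).1 h).resolve_left h5)
    have h5K : 5 ∣ Nat.card K := by
      rcases h5' with h | h
      · exact h.trans (card_dvd_of_le le_sup_right)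
      · rw [← card_map_of_injective X.subtype_injective] at h
        exact h.trans (card_dvd_of_le le_sup_left)
    exact Nat.Coprime.mul_dvd_of_dvd_of_dvd (by norm_num : Nat.Coprime 12 5)
      (h12.trans (card_dvd_of_le le_sup_right)) h5K
  -- an icosahedral subgroup of the quotient, lifted
  obtain ⟨A, hA⟩ : ∃ A : Subgroup (X ⧸ O), Nat.card A = 60 := by
    rcases hGW X S 2 le_rfl hSd with ⟨F, _, _, hodd, -, ⟨e⟩⟩ | ⟨⟨e⟩⟩
    · obtain ⟨A, hA⟩ := exists_sixty_psl hodd (Nat.card_congr e.toEquiv ▸ h5)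
      exact ⟨A.map e.symm.toMonoidHom, by
        rw [card_map_of_injective e.symm.injective, hA]⟩
    · exfalso
      apply h8
      refine (?_ : 8 ∣ Nat.card (X ⧸ O)).trans ((card_quotient_dvd_card _).trans X.card_subgroup_dvd_card)
      rw [Nat.card_congr e.toEquiv, nat_card_alternatingGroup, Nat.card_fin]
      decide
  set L := A.comap (QuotientGroup.mk' O) with hL
  have hOL : O ≤ L := QuotientGroup.le_comap_mk' O A
  have hidx : (O.subgroupOf L).index = 60 := by
    rw [← hA]
    have h1 : (O.subgroupOf L) = ((QuotientGroup.mk' O).subgroupComap A).ker := by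
      ext x
      rw [mem_subgroupOf, MonoidHom.mem_ker, Subtype.ext_iff]
      exact (QuotientGroup.eq_one_iff _).symm
    rw [h1, index_ker, MonoidHom.range_eq_top.2
      (MonoidHom.subgroupComap_surjective_of_surjective _ _ (QuotientGroup.mk'_surjective O)), card_top]
  have hcopL : Nat.Coprime (Nat.card (O.subgroupOf L)) (O.subgroupOf L).index := by
    rw [hidx, Nat.card_congr (subgroupOfEquivOfLe hOL).toEquiv]
    have h1 : 60 * Nat.card O ∣ 60 * r := by
      rw [← hr, ← Nat.card_congr (subgroupOfEquivOfLe hOL).toEquiv, ← hidx, mul_comm, card_mul_index]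
      exact L.card_subgroup_dvd_card.trans X.card_subgroup_dvd_card
    exact (hcopr.coprime_dvd_right ((Nat.mul_dvd_mul_iff_left (by norm_num : 0 < 60)).1 h1)).symm
  obtain ⟨H, hH⟩ := exists_right_complement'_of_coprime hcopL
  refine ⟨(H.map L.subtype).map X.subtype, ?_⟩
  rw [card_map_of_injective X.subtype_injective, card_map_of_injective L.subtype_injective,
    ← hH.symm.index_eq_card, hidx]

end Cfsg.Agent.Lib.HallNumber68
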