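import Cfsg.Agent.Lib.HallNumber68.Section
import Cfsg.Agent.Lib.HallNumber68.Embedded

/-!
# Twenty-four is a Hall number
-/

set_option autoImplicit false
set_option linter.style.haveILetI false

namespace Cfsg.Agent.Lib.HallNumber68

open Subgroup

universe u

/-- A group of order not divisible by `16` or `9` in which no element of order three normalises a
two-subgroup of order at least four is solvable. -/
theorem isSolvable_of_no_three (hP : BenderConsumers23.PropPartOne.{u}) {G : Type u} [Group G]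
    [Finite G] (h16 : ¬ 16 ∣ Nat.card G) (h9 : ¬ 9 ∣ Nat.card G)
    (hNS : ∀ Q : Subgroup G, IsPGroup 2 Q → 4 ∣ Nat.card Q →
      ¬ 3 ∣ Nat.card (normalizer (Q : Set G))) : Group.IsSolvable G := by
  haveI := Fact.mk Nat.prime_two
  by_contra hns
  obtain ⟨H, N, hN, hsimp, hna⟩ := exists_simple_section hns
  haveI := hN; haveI := hsimp
  have hd : Nat.card (H ⧸ N) ∣ Nat.card G :=
    (card_quotient_dvd_card N).trans H.card_subgroup_dvd_card
  have lift : ∀ Q : Subgroup (H ⧸ N), IsPGroup 2 Q → 4 ∣ Nat.card Q →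
      ¬ 3 ∣ Nat.card (normalizer (Q : Set (H ⧸ N))) := by
    intro Q hQ h4 h3
    obtain ⟨Q', hQ', hcard, hle⟩ :=
      exists_lift_normalizer _ (QuotientGroup.mk'_surjective N) Q hQ
    refine hNS (Q'.map H.subtype) (hQ'.map _) ?_ ?_
    · rw [card_map_of_injective H.subtype_injective]
      exact h4.trans hcard
    · have h1 := (h3.trans (card_dvd_of_le hle)).trans (card_map_dvd _ _)
      rw [← card_map_of_injective H.subtype_injective] at h1
      exact h1.trans (card_dvd_of_le (le_normalizer_map H.subtype))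
  obtain ⟨S⟩ : Nonempty (Sylow 2 (H ⧸ N)) := inferInstance
  have hS : Nat.card (S : Subgroup (H ⧸ N)) ∣ 8 := by
    obtain ⟨k, hk⟩ := IsPGroup.iff_card.1 S.2
    have hk3 : k ≤ 3 := by
      by_contra h
      exact h16 (((show (16 : ℕ) = 2 ^ 4 by norm_num) ▸ Nat.pow_dvd_pow 2 (by omega : 4 ≤ k)).trans
        ((hk ▸ (S : Subgroup (H ⧸ N)).card_subgroup_dvd_card).trans hd))
    rw [hk]
    exact (show (8 : ℕ) = 2 ^ 3 by norm_num) ▸ Nat.pow_dvd_pow 2 hk3
  have hns' : ¬ Group.IsSolvable (H ⧸ N) := fun h => by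
    obtain ⟨a, b, hab⟩ := hna
    exact hab (IsSimpleGroup.comm_iff_isSolvable.2 h a b)
  rcases exists_three_or hns' S hS with ⟨Q, hQ, h4, h3, -, -⟩ | ⟨h8, hsq⟩
  · exact lift Q (S.2.to_le hQ) h4 h3
  · exact h9 ((nine_dvd_card hP hna S h8 hsq (lift S S.2 (by rw [h8]; norm_num))).trans hd)

/-- Twenty-four is a Hall number. -/
theorem hall_twentyFour (hP : BenderConsumers23.PropPartOne.{u}) {G : Type u} [Group G] [Finite G]
    (hd : 24 ∣ Nat.card G) (hcop : Nat.Coprime 24 (Nat.card G / 24)) :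
    ∃ H : Subgroup G, Nat.card H = 24 := by
  haveI := Fact.mk Nat.prime_two
  obtain ⟨r, hr⟩ := hd
  rw [hr, Nat.mul_div_cancel_left _ (by norm_num)] at hcop
  have hr2 : ¬ 2 ∣ r := fun h => Nat.prime_two.ne_one (Nat.dvd_one.1 (hcop ▸ Nat.dvd_gcd (by norm_num) h))
  have hr3 : ¬ 3 ∣ r := fun h => Nat.prime_three.ne_one (Nat.dvd_one.1 (hcop ▸ Nat.dvd_gcd (by norm_num) h))
  have h16 : ¬ 16 ∣ Nat.card G := by rw [hr]; omega
  have h9 : ¬ 9 ∣ Nat.card G := by rw [hr]; omega
  have hcop' : Nat.Coprime 24 (Nat.card G / 24) := by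
    rwa [hr, Nat.mul_div_cancel_left _ (by norm_num)]
  by_cases hsol : Group.IsSolvable G
  · haveI : Group.IsSolvable (⊤ : Subgroup G) := inferInstance
    exact exists_card_of_solvable ⊤ hcop' (by rw [card_top, hr]; exact dvd_mul_right _ _)
  obtain ⟨P⟩ : Nonempty (Sylow 2 G) := inferInstance
  have hP8 : Nat.card (P : Subgroup G) = 8 := by
    obtain ⟨k, hk⟩ := IsPGroup.iff_card.1 P.2
    have h1 : 2 ^ 3 ∣ Nat.card (P : Subgroup G) :=
      P.pow_dvd_card_of_pow_dvd_card (n := 3) (by rw [hr]; norm_num; omega)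
    have h2 : k ≤ 3 := by
      by_contra h
      exact h16 ((hk ▸ (show (16 : ℕ) = 2 ^ 4 by norm_num) ▸ Nat.pow_dvd_pow 2 (by omega : 4 ≤ k) :
        16 ∣ Nat.card (P : Subgroup G)).trans (P : Subgroup G).card_subgroup_dvd_card)
    rw [hk] at h1 ⊢
    have h3 := (Nat.pow_dvd_pow_iff_le_right (by norm_num : 1 < 2)).1 h1
    rw [show k = 3 by omega]; norm_num
  rcases exists_three_or hsol P (hP8 ▸ dvd_rfl) with ⟨Q, -, -, h3, hPN, hsolv⟩ | ⟨-, hsq⟩
  · haveI := hsolv
    refine exists_card_of_solvable (normalizer (Q : Set G)) hcop' ?_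
    rw [hP8] at hPN
    exact Nat.Coprime.mul_dvd_of_dvd_of_dvd (by norm_num : Nat.Coprime 8 3) hPN h3
  by_contra hno
  refine hsol (isSolvable_of_no_three hP h16 h9 fun Q hQ h4 h3 => hno ?_)
  haveI := isSolvable_normalizer hQ h4 h16
  refine exists_card_of_solvable (normalizer (Q : Set G)) hcop'
    (Nat.Coprime.mul_dvd_of_dvd_of_dvd (by norm_num : Nat.Coprime 8 3) ?_ h3)
  obtain ⟨S, hS⟩ := hQ.exists_le_sylow
  obtain ⟨c, hc⟩ := MulAction.exists_smul_eq G P S
  have hcomm : ∀ a ∈ (S : Subgroup G), ∀ b ∈ (S : Subgroup G), a * b = b * a := by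
    have key : ∀ x ∈ (S : Subgroup G), x * x = 1 := by
      intro x hx
      rw [← hc, Sylow.coe_subgroup_smul] at hx
      obtain ⟨y, hy, rfl⟩ := hx
      show (MulAut.conj c) y * (MulAut.conj c) y = 1
      rw [← map_mul, hsq y hy, map_one]
    exact fun a ha b hb => comm_of_sq (key a ha) (key b hb) (key _ (mul_mem ha hb))
  have hSN : (S : Subgroup G) ≤ normalizer (Q : Set G) := fun x hx => mem_normalizer_iff.2 fun y =>
    ⟨fun hy => by rwa [hcomm x hx y (hS hy), mul_inv_cancel_right], fun hy => by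
      have h1 := hS hy
      have hyS : y ∈ (S : Subgroup G) := by
        have := mul_mem (mul_mem (inv_mem hx) h1) hx
        simpa [mul_assoc] using this
      rwa [hcomm x hx y hyS, mul_inv_cancel_right] at hy⟩
  rw [← hP8, Sylow.card_eq_multiplicity P, ← Sylow.card_eq_multiplicity S]
  exact card_dvd_of_le hSN

end Cfsg.Agent.Lib.HallNumber68
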