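import Cfsg.Agent.Lib.HallNumber68.Counter
import Cfsg.Agent.Lib.HallNumber68.Sixty
import Cfsg.Agent.Lib.HallNumber68.TwentyFour

/-!
# The Hall numbers, given Bender's theorem (part I) and the Gorenstein-Walter theorem
-/

set_option autoImplicit false
set_option linter.style.haveILetI false

namespace Cfsg.Agent.Lib.HallNumber68

open Subgroup

/-- The statement of S4044. -/
theorem row4044 (hP : BenderConsumers23.PropPartOne.{0}) (hGW : GWPerfect.{0}) (m : ℕ) (hm : 2 ≤ m) :
    (∀ (G : Type) [Group G] [Finite G], m ∣ Nat.card G → m.Coprime (Nat.card G / m) →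
        ∃ H : Subgroup G, Nat.card H = m) ↔
    (IsPrimePow m ∨ m % 4 = 2 ∨ m = 12 ∨ m = 24 ∨ m = 60) := by
  refine ⟨fun h => ?_, ?_⟩
  · by_contra hcon
    push Not at hcon
    obtain ⟨hpp, h2, h12, h24, h60⟩ := hcon
    obtain ⟨G, i, j, hd, hc, hno⟩ := not_hall hm hpp h2 h12 h24 h60
    obtain ⟨H, hH⟩ := h G hd hc
    exact hno H hH
  intro h G _ _ hd hc
  rcases h with h | h | rfl | rfl | rfl
  · obtain ⟨p, k, hp, -, rfl⟩ := (isPrimePow_nat_iff _).1 h
    haveI := Fact.mk hp
    exact Sylow.exists_subgroup_card_pow_prime p hd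
  · haveI : Group.IsSolvable G := by
      refine isSolvable_of_not_four_dvd fun h4 => ?_
      obtain ⟨r, hr⟩ := hd
      rw [hr, Nat.mul_div_cancel_left _ (by omega)] at hc
      rw [hr] at h4
      have h2m : m.Coprime 4 → False := fun hco => by
        have := Nat.Coprime.coprime_dvd_left (show 2 ∣ m by omega) hco
        norm_num at this
      obtain ⟨c, hc2⟩ : 2 ∣ r := by
        by_contra hr2
        have h4r : Nat.Coprime 4 r :=
          (show (4 : ℕ) = 2 ^ 2 by norm_num) ▸ (Nat.prime_two.coprime_iff_not_dvd.2 hr2).pow_left 2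
        have : 4 ∣ m := h4r.dvd_of_dvd_mul_right h4
        omega
      have := hc.coprime_dvd_left (show 2 ∣ m by omega)
      rw [hc2] at this
      norm_num [Nat.coprime_mul_iff_right] at this
    haveI : Group.IsSolvable (⊤ : Subgroup G) := inferInstance
    exact exists_card_of_solvable ⊤ hc (by rwa [card_top])
  · exact hall_twelve hd hc
  · exact hall_twentyFour hP hd hc
  · exact hall_sixty hGW hd hc

end Cfsg.Agent.Lib.HallNumber68
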