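import Cfsg.Agent.Lib.HallNumber68.Basic

/-!
# Simple sections and normalisers of two-subgroups
-/

set_option autoImplicit false
set_option linter.style.haveILetI false

namespace Cfsg.Agent.Lib.HallNumber68

open Subgroup

universe u

/-- A two-subgroup of a quotient comes from a two-subgroup, with all of its normaliser. -/
theorem exists_lift_normalizer {H T : Type*} [Group H] [Finite H] [Group T] [Finite T]
    (f : H →* T) (hf : Function.Surjective f) (Q : Subgroup T) (hQ : IsPGroup 2 Q) :
    ∃ Q' : Subgroup H, IsPGroup 2 Q' ∧ Nat.card Q ∣ Nat.card Q' ∧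
      normalizer (Q : Set T) ≤ (normalizer (Q' : Set H)).map f := by
  haveI := Fact.mk Nat.prime_two
  set L := Q.comap f with hL
  obtain ⟨P⟩ : Nonempty (Sylow 2 L) := inferInstance
  set g := f.subgroupComap Q
  have hg : Function.Surjective g := f.subgroupComap_surjective_of_surjective Q hf
  have hPg : (P : Subgroup L).map g = ⊤ := by
    have h1 := index_map_dvd (P : Subgroup L) hg
    have h2 : ¬ 2 ∣ ((P : Subgroup L).map g).index := fun h => P.not_dvd_index (h.trans h1)
    obtain ⟨k, hk⟩ := IsPGroup.iff_card.1 hQ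
    have h3 : ((P : Subgroup L).map g).index ∣ 2 ^ k := hk ▸ index_dvd_card _
    obtain ⟨j, -, hj⟩ := (Nat.dvd_prime_pow Nat.prime_two).1 h3
    rw [hj] at h2
    have hj0 : j = 0 := by
      by_contra hj0
      exact h2 (dvd_pow_self 2 hj0)
    rw [← index_eq_one, hj, hj0, pow_zero]
  set Q' := (P : Subgroup L).map L.subtype with hQ'
  have hmap : Q'.map f = Q := by
    ext t
    constructor
    · rintro ⟨_, ⟨x, -, rfl⟩, rfl⟩
      exact x.2
    · intro ht
      obtain ⟨x, hx, hxe⟩ := mem_map.1 (hPg ▸ mem_top (⟨t, ht⟩ : Q))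
      exact ⟨x, ⟨x, hx, rfl⟩, congrArg Subtype.val hxe⟩
  refine ⟨Q', P.2.map _, ?_, fun t ht => ?_⟩
  · rw [← hmap]; exact card_map_dvd _ f
  obtain ⟨h, rfl⟩ := hf t
  have hh : h ∈ normalizer (L : Set H) := by
    rw [mem_normalizer_iff]
    intro x
    rw [hL, mem_comap, mem_comap, map_mul, map_mul, map_inv]
    exact mem_normalizer_iff.1 ht (f x)
  set M := normalizer (L : Set H)
  have hLM : L ≤ M := le_normalizer
  haveI : (L.subgroupOf M).Normal := normal_in_normalizer
  let e : L ≃* L.subgroupOf M := (subgroupOfEquivOfLe hLM).symm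
  obtain ⟨N, hN⟩ : ∃ N : Sylow 2 (L.subgroupOf M), (N : Subgroup _).map (L.subgroupOf M).subtype =
      Q'.subgroupOf M := by
    refine ⟨P.mapSurjective (f := e.toMonoidHom) e.surjective, ?_⟩
    ext x
    simp only [Sylow.coe_mapSurjective, mem_map, mem_subgroupOf, hQ', coe_subtype]
    constructor
    · rintro ⟨_, ⟨y, hy, rfl⟩, rfl⟩
      exact ⟨y, hy, rfl⟩
    · rintro ⟨y, hy, hyx⟩
      exact ⟨e y, ⟨y, hy, rfl⟩, Subtype.ext hyx⟩
  have htop := N.normalizer_sup_eq_top
  rw [hN] at htop
  obtain ⟨n, hn, y, hy, hny⟩ := mem_sup_of_normal_right.1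
    (htop ▸ mem_top (⟨h, hh⟩ : M) : (⟨h, hh⟩ : M) ∈ _)
  have hQ'L : Q' ≤ L := map_subtype_le _
  have hn' : (n : H) ∈ normalizer (Q' : Set H) := by
    have h1 := le_normalizer_map M.subtype (mem_map_of_mem M.subtype hn)
    rwa [map_subgroupOf_eq_of_le (hQ'L.trans hLM)] at h1
  have he : f h = f n * f y := by
    rw [← map_mul]
    exact congrArg f (congrArg Subtype.val hny).symm
  rw [he]
  refine mul_mem (mem_map_of_mem f hn') ?_
  have hy' : f (y : H) ∈ Q'.map f := hmap.symm ▸ hy
  exact map_mono le_normalizer hy'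

/-- A non-solvable group has a non-abelian simple section. -/
theorem exists_simple_section {G : Type u} [Group G] [Finite G] (hns : ¬ Group.IsSolvable G) :
    ∃ (H : Subgroup G) (N : Subgroup H) (_ : N.Normal), IsSimpleGroup (H ⧸ N) ∧
      ∃ a b : H ⧸ N, a * b ≠ b * a := by
  classical
  obtain ⟨H, hH, hmin⟩ := Set.Finite.exists_minimal (Set.toFinite {H : Subgroup G | ¬ Group.IsSolvable H})
    ⟨⊤, fun h => hns (solvable_of_surjective (f := (⊤ : Subgroup G).subtype)
      fun g => ⟨⟨g, mem_top g⟩, rfl⟩)⟩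
  haveI : Nontrivial H := by
    by_contra h
    haveI := not_nontrivial_iff_subsingleton.1 h
    exact hH inferInstance
  obtain ⟨N, ⟨hN, hNtop⟩, hmax⟩ := Set.Finite.exists_maximal
    (Set.toFinite {N : Subgroup H | N.Normal ∧ N ≠ ⊤}) ⟨⊥, inferInstance, bot_ne_top⟩
  haveI := hN
  haveI : Nontrivial (H ⧸ N) := QuotientGroup.nontrivial_iff.2 hNtop
  refine ⟨H, N, hN, ⟨fun K hK => ?_⟩, ?_⟩
  · by_cases h : K.comap (QuotientGroup.mk' N) = ⊤
    · right
      rw [← map_comap_eq_self_of_surjective (QuotientGroup.mk'_surjective N) K, h,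
        map_top_of_surjective _ (QuotientGroup.mk'_surjective N)]
    · left
      have hle : K.comap (QuotientGroup.mk' N) ≤ N :=
        hmax ⟨hK.comap _, h⟩ (QuotientGroup.le_comap_mk' N K)
      rw [eq_bot_iff, ← map_comap_eq_self_of_surjective (QuotientGroup.mk'_surjective N) K,
        map_le_iff_le_comap, MonoidHom.comap_bot, QuotientGroup.ker_mk']
      exact hle
  · by_contra hc
    push Not at hc
    haveI : Group.IsSolvable (H ⧸ N) := Group.isSolvable_of_comm hc
    haveI : Group.IsSolvable N := by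
      by_contra hN'
      have h1 : ¬ Group.IsSolvable (N.map H.subtype) := fun h => hN' (solvable_of_surjective
        (f := (equivMapOfInjective N H.subtype H.subtype_injective).symm.toMonoidHom)
        (MulEquiv.surjective _))
      exact hNtop (eq_top_iff.2 fun x _ => by
        obtain ⟨y, hy, hyx⟩ := hmin h1 (map_subtype_le N) x.2
        exact H.subtype_injective hyx ▸ hy)
    exact hH (Group.isSolvable_of_ker_le_range N.subtype (QuotientGroup.mk' N)
      (by rw [QuotientGroup.ker_mk', range_subtype]))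

end Cfsg.Agent.Lib.HallNumber68
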